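/-
Two tools for small multipliers: a bound from a two-generator Sylow subgroup, and joining stem
extensions with cyclic kernels of coprime orders.
-/
import Cfsg.Agent.Lib.Schur.Basic
import Cfsg.Agent.Lib.Schur.PcCriteria
import Cfsg.Agent.Lib.SchurCover.Perfect

set_option autoImplicit false

namespace CfsgLib.SchurSmall18

open Subgroup Cfsg CfsgLib.Schur CfsgLib.SchurCover
open scoped commutatorElement

universe u v w

/-- The derived subgroup of a two-generator group is inside a cyclic subgroup normalised by the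
generators that holds their commutator. -/
theorem commutator_closure_pair_le {Γ : Type u} [Group Γ] [Finite Γ] {x y c : Γ}
    (hx : x * c * x⁻¹ ∈ zpowers c) (hy : y * c * y⁻¹ ∈ zpowers c) (hc : ⁅x, y⁆ = c) :
    ⁅closure ({x, y} : Set Γ), closure ({x, y} : Set Γ)⁆ ≤ zpowers c := by
  set H := closure ({x, y} : Set Γ) with hH
  have hxH : x ∈ H := subset_closure (by simp)
  have hyH : y ∈ H := subset_closure (by simp)
  have hcH : c ∈ H := hc ▸ by
    rw [commutatorElement_def]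
    exact mul_mem (mul_mem (mul_mem hxH hyH) (inv_mem hxH)) (inv_mem hyH)
  set N := zpowers c with hN
  have hnorm : H ≤ normalizer (N : Set Γ) := by
    rw [hH, closure_le]
    have key : ∀ g : Γ, g * c * g⁻¹ ∈ N → g ∈ normalizer (N : Set Γ) := fun g hg => by
      refine mem_normalizer_fintype fun n hn => ?_
      obtain ⟨k, rfl⟩ := mem_zpowers_iff.mp hn
      have := map_zpow (MulAut.conj g) c k
      simp only [MulAut.conj_apply] at this
      rw [SetLike.mem_coe, this]
      exact zpow_mem hg k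
    rintro g (rfl | rfl)
    · exact key _ hx
    · exact key _ hy
  have hNle : N ≤ H := zpowers_le.mpr hcH
  have : (N.subgroupOf H).Normal := normal_subgroupOf_iff_le_normalizer hNle |>.mpr hnorm
  let π := QuotientGroup.mk' (N.subgroupOf H)
  have hxy : Commute (π ⟨x, hxH⟩) (π ⟨y, hyH⟩) := by
    rw [← commutatorElement_eq_one_iff_commute, ← map_commutatorElement]
    refine (QuotientGroup.eq_one_iff _).mpr ?_
    show ((⁅(⟨x, hxH⟩ : H), (⟨y, hyH⟩ : H)⁆ : H) : Γ) ∈ N
    rw [show ((⁅(⟨x, hxH⟩ : H), (⟨y, hyH⟩ : H)⁆ : H) : Γ) = ⁅x, y⁆ from rfl, hc]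
    exact mem_zpowers c
  rw [commutator_le]
  intro g hg k hk
  have hcomm : ∀ g : Γ, ∀ hg : g ∈ H, ∀ k : Γ, ∀ hk : k ∈ H,
      Commute (π ⟨g, hg⟩) (π ⟨k, hk⟩) := by
    intro g hg
    induction hg using closure_induction with
    | mem g hg' =>
      intro k hk
      induction hk using closure_induction with
      | mem k hk' =>
        rcases hg' with rfl | rfl <;> rcases hk' with rfl | rfl
        · exact Commute.refl _
        · exact hxy
        · exact hxy.symm
        · exact Commute.refl _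
      | one => exact (Commute.one_right _)
      | mul a b ha hb iha ihb => exact iha.mul_right ihb
      | inv a ha iha => exact iha.inv_right
    | one => intro k hk; exact Commute.one_left _
    | mul a b ha hb iha ihb => intro k hk; exact (iha k hk).mul_left (ihb k hk)
    | inv a ha iha => intro k hk; exact (iha k hk).inv_left
  have h1 := (hcomm g hg k hk)
  rw [← commutatorElement_eq_one_iff_commute, ← map_commutatorElement] at h1
  have h2 : (⁅(⟨g, hg⟩ : H), (⟨k, hk⟩ : H)⁆ : H) ∈ N.subgroupOf H :=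
    (QuotientGroup.eq_one_iff _).mp h1
  exact h2

/-- The torsion at `p` lies in the commutator subgroup of the lifts of two generators of a Sylow
subgroup. -/
theorem mem_commutator_lifts {G : Type u} [Group G] [Finite G] {p : ℕ} [Fact p.Prime]
    (S : Sylow p G) {a b : G} (hS : (S : Subgroup G) ≤ closure {a, b})
    {Γ : Type u} [Group Γ] [Finite Γ] {σ : Γ →* G} (hσ : IsStemExtension σ) {x y : Γ}
    (hx : σ x = a) (hy : σ y = b) {z : Γ} (hz : z ∈ σ.ker) {e : ℕ} (he : z ^ p ^ e = 1) :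
    z ∈ ⁅closure ({x, y} : Set Γ), closure ({x, y} : Set Γ)⁆ := by
  obtain ⟨P, hP⟩ := exists_sylow_map_eq hσ.1 S
  have hzP := Pc.center_mem_sylow_of_pow P (hσ.2.1 hz) he
  have h1 := center_commutator_sylow P (hσ.2.1 hz) (hσ.2.2 hz) hzP
  refine (commutator_le.mpr ?_) h1
  have hlift : ∀ g ∈ (P : Subgroup Γ), ∃ g' ∈ closure ({x, y} : Set Γ), σ g = σ g' := by
    intro g hg
    have : σ g ∈ closure ({a, b} : Set G) := hS (hP ▸ mem_map_of_mem σ hg)
    rw [show ({a, b} : Set G) = σ '' {x, y} by rw [Set.image_pair, hx, hy],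
      ← MonoidHom.map_closure] at this
    obtain ⟨g', hg', he'⟩ := this
    exact ⟨g', hg', he'.symm⟩
  intro g hg k hk
  obtain ⟨g', hg', eg⟩ := hlift g hg
  obtain ⟨k', hk', ek⟩ := hlift k hk
  rw [commutator_congr hσ.2.1 eg ek]
  exact commutator_mem_commutator hg' hk'

/-- Sylow subgroup generated by two commuting elements of order dividing `p`. -/
theorem spanAt_of_commuting_pair {G : Type u} [Group G] [Finite G] {p : ℕ} [Fact p.Prime]
    (S : Sylow p G) {a b : G} (hS : (S : Subgroup G) ≤ closure {a, b}) (hab : Commute a b)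
    (ha : a ^ p = 1) : Pc.SpanAt p G [p] := by
  intro Γ _ _ σ hσ
  obtain ⟨x, hx⟩ := hσ.1 a
  obtain ⟨y, hy⟩ := hσ.1 b
  set c := ⁅x, y⁆ with hc
  have hck : c ∈ σ.ker := by
    rw [MonoidHom.mem_ker, hc, map_commutatorElement, hx, hy]
    exact commutatorElement_eq_one_iff_commute.mpr hab
  have hcc : ∀ g, Commute c g := fun g => (mem_center_iff.mp (hσ.2.1 hck) g).symm
  have hxc : ∀ g : Γ, g * c * g⁻¹ = c := fun g => by rw [← (hcc g).eq, mul_inv_cancel_right]
  have hcp : c ^ p = 1 := by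
    have hxp : x ^ p ∈ center Γ := hσ.2.1 (by rw [MonoidHom.mem_ker, map_pow, hx, ha])
    have h2 : y * x * y⁻¹ = c⁻¹ * x := by
      rw [hc, commutatorElement_def]; group
    have h3 : y * x ^ p * y⁻¹ = (c⁻¹ * x) ^ p := by rw [← h2, conj_pow]
    rw [(mem_center_iff.mp hxp y), mul_inv_cancel_right, (hcc x).inv_left.mul_pow] at h3
    exact inv_eq_one.mp (by simpa [inv_pow] using h3.symm)
  refine ⟨fun _ => c, fun k => ⟨hck, fun hk => ?_⟩, fun z hz ⟨e, he⟩ => ?_⟩
  · simp only [List.length_cons, List.length_nil, zero_add] at hk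
    obtain rfl : k = 0 := by omega
    simpa using hcp
  · have h1 := commutator_closure_pair_le (by rw [hxc]; exact mem_zpowers c)
      (by rw [hxc]; exact mem_zpowers c) hc.symm (mem_commutator_lifts S hS hσ hx hy hz he)
    rw [show (fun _ : ℕ => c) '' Set.Iio ([p].length) = {c} from
      (Set.Nonempty.image_const ⟨0, by simp⟩ c), ← zpowers_eq_closure]
    exact h1

/-- Sylow 2-subgroup generated by an element of order four and an involution inverting it. -/
theorem spanAt_two_of_dihedral {G : Type u} [Group G] [Finite G]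
    (S : Sylow 2 G) {a b : G} (hS : (S : Subgroup G) ≤ closure {a, b}) (ha : a ^ 4 = 1)
    (ha2 : a ^ 2 ≠ 1) (hb : b * a * b⁻¹ = a⁻¹) : Pc.SpanAt 2 G [2] := by
  intro Γ _ _ σ hσ
  obtain ⟨x, hx⟩ := hσ.1 a
  obtain ⟨y, hy⟩ := hσ.1 b
  obtain ⟨w, hwk, hyx⟩ : ∃ w : Γ, w ∈ σ.ker ∧ y * x * y⁻¹ = w * x⁻¹ := by
    refine ⟨y * x * y⁻¹ * x, ?_, by group⟩
    rw [MonoidHom.mem_ker, map_mul, map_mul, map_mul, map_inv, hx, hy, hb, inv_mul_cancel]
  have hwc : ∀ g, Commute w g := fun g => (mem_center_iff.mp (hσ.2.1 hwk) g).symm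
  obtain ⟨c, hc⟩ : ∃ c, c = ⁅x, y⁆ := ⟨_, rfl⟩
  have hcv : c = x ^ 2 * w⁻¹ := by
    have h0 : c = x * (y * x * y⁻¹)⁻¹ := by rw [hc, commutatorElement_def]; group
    rw [h0, hyx, mul_inv_rev, inv_inv, ← mul_assoc, pow_two]
  have hcx : x * c * x⁻¹ = c := by
    have h : Commute x c := by
      rw [hcv]; exact (Commute.self_pow x 2).mul_right (hwc x).symm.inv_right
    exact mul_inv_eq_iff_eq_mul.mpr h.eq
  have hcy : y * c * y⁻¹ = c⁻¹ := by
    have h1 : y * w⁻¹ * y⁻¹ = w⁻¹ := mul_inv_eq_iff_eq_mul.mpr (hwc y).symm.inv_right.eq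
    have h2 : y * c * y⁻¹ = (y * x * y⁻¹) ^ 2 * (y * w⁻¹ * y⁻¹) := by
      rw [hcv, conj_pow]; group
    rw [h2, h1, hyx, (hwc x⁻¹).mul_pow, hcv, mul_inv_rev, inv_inv, inv_pow,
      mul_assoc (w ^ 2), ((hwc (x ^ 2)).symm.inv_inv).eq, ← mul_assoc, pow_two w,
      mul_inv_cancel_right]
  have hk2 : c ^ 2 ∈ σ.ker := by
    rw [MonoidHom.mem_ker, hcv, (hwc (x ^ 2)).inv_left.symm.mul_pow, map_mul, map_pow, map_pow,
      map_pow, hx, ← pow_mul, ha, map_inv, MonoidHom.mem_ker.mp hwk, inv_one, one_pow, mul_one]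
  have hc4 : (c ^ 2) ^ 2 = 1 := by
    have h1 := mem_center_iff.mp (hσ.2.1 hk2) y
    have h2 : y * c ^ 2 * y⁻¹ = (c⁻¹) ^ 2 := by rw [← conj_pow, hcy]
    rw [h1, mul_inv_cancel_right, inv_pow, ← mul_eq_one_iff_eq_inv] at h2
    rw [pow_two (c ^ 2)]; exact h2
  refine ⟨fun _ => c ^ 2, fun k => ⟨hk2, fun hk => ?_⟩, fun z hz ⟨e, he⟩ => ?_⟩
  · simp only [List.length_cons, List.length_nil, zero_add] at hk
    obtain rfl : k = 0 := by omega
    simpa using hc4
  · have h1 := commutator_closure_pair_le (by rw [hcx]; exact mem_zpowers c)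
      (by rw [hcy]; exact inv_mem (mem_zpowers c)) hc.symm
      (mem_commutator_lifts S hS hσ hx hy hz he)
    rw [show (fun _ : ℕ => c ^ 2) '' Set.Iio ([2].length) = {c ^ 2} from
      (Set.Nonempty.image_const ⟨0, by simp⟩ (c ^ 2)), ← zpowers_eq_closure]
    obtain ⟨k, rfl⟩ := mem_zpowers_iff.mp h1
    have hσc : σ c = a ^ 2 := by
      rw [hcv, map_mul, map_pow, map_inv, hx, MonoidHom.mem_ker.mp hwk, inv_one, mul_one]
    have hk : (a ^ 2) ^ k = 1 := by rw [← hσc, ← map_zpow]; exact hz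
    have ho : orderOf (a ^ 2) = 2 := orderOf_eq_prime (by rw [← pow_mul, ha]) ha2
    have hdvd : (2 : ℤ) ∣ k := by
      have := orderOf_dvd_iff_zpow_eq_one.mpr hk
      rwa [ho] at this
    obtain ⟨j, rfl⟩ := hdvd
    exact mem_zpowers_iff.mpr ⟨j, by rw [← zpow_natCast c 2, ← zpow_mul]; rfl⟩

/-- The same stem extension seen over an isomorphic group. -/
theorem isStemExtension_comp_equiv {Γ : Type u} {G : Type v} {H : Type w} [Group Γ] [Group G]
    [Group H] {σ : Γ →* G} (hσ : IsStemExtension σ) (e : G ≃* H) :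
    IsStemExtension (e.toMonoidHom.comp σ) := by
  have hk : (e.toMonoidHom.comp σ).ker = σ.ker := MonoidHom.ker_mulEquiv_comp σ e
  exact ⟨e.surjective.comp hσ.1, hk ▸ hσ.2.1, hk ▸ hσ.2.2⟩

section Fibre

variable {K : Type u} {L : Type v} {G : Type w} [Group K] [Group L] [Group G]
  {σ : K →* G} {τ : L →* G}

/-- An element of one kernel, paired with one, is a commutator product in the fibre product
when its order is prime to that of the other kernel. -/
theorem inl_mem_commutator (hσ : IsStemExtension σ) (hτ : Function.Surjective τ) {m k : ℕ}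
    (hmk : Nat.Coprime m k) (hk : ∀ w ∈ τ.ker, w ^ k = 1) {z : K} (hz : z ∈ σ.ker)
    (hm : z ^ m = 1) (h : σ z = τ 1) :
    (⟨(z, 1), h⟩ : fibre σ τ) ∈ commutator (fibre σ τ) := by
  have hzc : z ∈ commutator K := hσ.2.2 hz
  rw [← map_commutator_eq (fibreFst σ τ) (fibreFst_surjective σ hτ)] at hzc
  obtain ⟨q, hq, hqz⟩ := hzc
  have hw : fibreSnd σ τ q ∈ τ.ker := by
    rw [MonoidHom.mem_ker, ← fibre_rel, hqz]; exact hz
  obtain ⟨x, y, hxy⟩ : ∃ x y : ℤ, x * m + y * k = 1 := Nat.isCoprime_iff_coprime.2 hmk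
  have hq' : q ^ (y * k) ∈ commutator (fibre σ τ) := zpow_mem hq _
  convert hq'
  refine Subtype.ext (Prod.ext ?_ ?_)
  · show z = fibreFst σ τ (q ^ (y * k))
    rw [map_zpow, hqz, show y * (k : ℤ) = 1 - x * m by linarith [hxy], zpow_sub, zpow_one,
      mul_comm x, zpow_mul, zpow_natCast, hm, one_zpow, inv_one, mul_one]
  · show (1 : L) = fibreSnd σ τ (q ^ (y * k))
    rw [map_zpow, mul_comm y, zpow_mul, zpow_natCast, hk _ hw, one_zpow]

theorem inr_mem_commutator (hσ : Function.Surjective σ) (hτ : IsStemExtension τ) {m k : ℕ}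
    (hmk : Nat.Coprime m k) (hm : ∀ z ∈ σ.ker, z ^ m = 1) {w : L} (hw : w ∈ τ.ker)
    (hk : w ^ k = 1) (h : σ 1 = τ w) :
    (⟨(1, w), h⟩ : fibre σ τ) ∈ commutator (fibre σ τ) := by
  have hwc : w ∈ commutator L := hτ.2.2 hw
  rw [← map_commutator_eq (fibreSnd σ τ) (fibreSnd_surjective hσ τ)] at hwc
  obtain ⟨q, hq, hqw⟩ := hwc
  have hz : fibreFst σ τ q ∈ σ.ker := by
    rw [MonoidHom.mem_ker, fibre_rel, hqw]; exact hw
  obtain ⟨x, y, hxy⟩ : ∃ x y : ℤ, x * m + y * k = 1 := Nat.isCoprime_iff_coprime.2 hmk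
  have hq' : q ^ (x * m) ∈ commutator (fibre σ τ) := zpow_mem hq _
  convert hq'
  refine Subtype.ext (Prod.ext ?_ ?_)
  · show (1 : K) = fibreFst σ τ (q ^ (x * m))
    rw [map_zpow, mul_comm x, zpow_mul, zpow_natCast, hm _ hz, one_zpow]
  · show w = fibreSnd σ τ (q ^ (x * m))
    rw [map_zpow, hqw, show x * (m : ℤ) = 1 - y * k by linarith [hxy], zpow_sub, zpow_one,
      mul_comm y, zpow_mul, zpow_natCast, hk, one_zpow, inv_one, mul_one]

variable [Finite K] [Finite L]

/-- The fibre product over `G` is a stem extension whose kernel is the product of the kernels. -/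
theorem exists_join (hσ : IsStemExtension σ) (hτ : IsStemExtension τ)
    (hco : Nat.Coprime (Nat.card σ.ker) (Nat.card τ.ker)) :
    ∃ ρ : fibre σ τ →* G, IsStemExtension ρ ∧ Nonempty (ρ.ker ≃* σ.ker × τ.ker) := by
  have hm : ∀ z ∈ σ.ker, z ^ Nat.card σ.ker = 1 := fun z hz =>
    congrArg Subtype.val (pow_card_eq_one' (x := (⟨z, hz⟩ : σ.ker)))
  have hk : ∀ w ∈ τ.ker, w ^ Nat.card τ.ker = 1 := fun w hw =>
    congrArg Subtype.val (pow_card_eq_one' (x := (⟨w, hw⟩ : τ.ker)))
  let ρ := σ.comp (fibreFst σ τ)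
  have hmem : ∀ q ∈ ρ.ker, fibreFst σ τ q ∈ σ.ker ∧ fibreSnd σ τ q ∈ τ.ker := fun q hq =>
    ⟨hq, by rw [MonoidHom.mem_ker, ← fibre_rel]; exact hq⟩
  refine ⟨ρ, ⟨hσ.1.comp (fibreFst_surjective σ hτ.1), ?_, ?_⟩, ⟨?_⟩⟩
  · intro q hq
    rw [mem_center_iff]
    intro g
    exact Subtype.ext (Prod.ext (mem_center_iff.mp (hσ.2.1 (hmem q hq).1) _)
      (mem_center_iff.mp (hτ.2.1 (hmem q hq).2) _))
  · intro q hq
    obtain ⟨h1, h2⟩ := hmem q hq
    have e1 : σ (fibreFst σ τ q) = τ 1 := by rw [map_one]; exact h1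
    have e2 : σ 1 = τ (fibreSnd σ τ q) := by rw [map_one]; exact (MonoidHom.mem_ker.mp h2).symm
    have : q = (⟨(fibreFst σ τ q, 1), e1⟩ : fibre σ τ) * ⟨(1, fibreSnd σ τ q), e2⟩ :=
      Subtype.ext (Prod.ext (mul_one _).symm (one_mul _).symm)
    rw [this]
    exact mul_mem (inl_mem_commutator hσ hτ.1 hco hk h1 (hm _ h1) e1)
      (inr_mem_commutator hσ.1 hτ hco hm h2 (hk _ h2) e2)
  · exact
      { toFun := fun q => (⟨_, (hmem q q.2).1⟩, ⟨_, (hmem q q.2).2⟩)
        invFun := fun r => ⟨⟨((r.1 : K), (r.2 : L)), by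
            show σ (r.1 : K) = τ (r.2 : L)
            rw [MonoidHom.mem_ker.mp r.1.2, MonoidHom.mem_ker.mp r.2.2]⟩, r.1.2⟩
        left_inv := fun q => rfl
        right_inv := fun r => rfl
        map_mul' := fun q r => rfl }

/-- Cyclic kernels of coprime prime orders join to a cyclic kernel. -/
theorem exists_join_zmod (hσ : IsStemExtension σ) (hτ : IsStemExtension τ) {m k : ℕ}
    (hmk : Nat.Coprime m k) (e : σ.ker ≃* Multiplicative (ZMod m))
    (f : τ.ker ≃* Multiplicative (ZMod k)) :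
    ∃ ρ : fibre σ τ →* G,
      IsStemExtension ρ ∧ Nonempty (ρ.ker ≃* Multiplicative (ZMod (m * k))) := by
  have hc1 : Nat.card σ.ker = m := by rw [Nat.card_congr e.toEquiv]; exact Nat.card_zmod m
  have hc2 : Nat.card τ.ker = k := by rw [Nat.card_congr f.toEquiv]; exact Nat.card_zmod k
  obtain ⟨ρ, hρ, ⟨g⟩⟩ := exists_join hσ hτ (by rwa [hc1, hc2])
  let crt : Multiplicative (ZMod m) × Multiplicative (ZMod k) ≃* Multiplicative (ZMod (m * k)) :=
    ((MulEquiv.prodMultiplicative (ZMod m) (ZMod k)).symm).trans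
      (ZMod.chineseRemainder hmk).toAddEquiv.symm.toMultiplicative
  exact ⟨ρ, hρ, ⟨(g.trans (MulEquiv.prodCongr e f)).trans crt⟩⟩

end Fibre

end CfsgLib.SchurSmall18
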