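/-
Permutations on forty-five points generating the triple cover of the alternating group of degree seven.
-/
import Mathlib.GroupTheory.Perm.Basic
import Mathlib.Data.Fintype.Basic
import Mathlib.Data.Fintype.Perm
import Mathlib.Data.Fin.VecNotation
import Mathlib.Tactic

set_option autoImplicit false

namespace CfsgLib.SchurSmall18

/-- Coset table column. -/
def tS0 : Equiv.Perm (Fin 45) :=
  ⟨![23, 37, 3, 4, 2, 33, 28, 14, 12, 10, 11, 9, 13, 8, 41, 5, 6, 18, 19, 17, 21, 22, 20, 27, 43, 26, 31, 0, 16, 32, 39, 25, 44, 15, 38, 30, 1, 36, 40, 35, 34, 7, 24, 42, 29],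
   ![27, 36, 4, 2, 3, 15, 16, 41, 13, 11, 9, 10, 8, 12, 7, 33, 28, 19, 17, 18, 22, 20, 21, 0, 42, 31, 25, 23, 6, 44, 35, 26, 29, 5, 40, 39, 37, 1, 34, 30, 38, 14, 43, 24, 32],
   by decide +kernel, by decide +kernel⟩

/-- Coset table column. -/
def tS1 : Equiv.Perm (Fin 45) :=
  ⟨![28, 33, 4, 2, 3, 38, 19, 41, 43, 44, 42, 12, 29, 10, 7, 36, 27, 16, 23, 20, 6, 18, 0, 21, 9, 31, 25, 17, 22, 11, 1, 26, 8, 30, 37, 34, 40, 35, 39, 5, 15, 14, 13, 32, 24],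
   ![22, 30, 3, 4, 2, 39, 20, 14, 32, 24, 13, 29, 11, 42, 41, 40, 17, 27, 21, 6, 19, 23, 28, 18, 44, 26, 31, 16, 0, 12, 33, 25, 43, 1, 35, 37, 15, 34, 5, 38, 36, 7, 10, 8, 9],
   by decide +kernel, by decide +kernel⟩

/-- Coset table column. -/
def tS2 : Equiv.Perm (Fin 45) :=
  ⟨![19, 2, 38, 36, 30, 15, 23, 6, 9, 26, 13, 43, 25, 42, 0, 33, 17, 27, 28, 14, 22, 20, 21, 7, 12, 24, 8, 16, 41, 44, 40, 11, 29, 5, 35, 37, 39, 34, 1, 3, 4, 18, 10, 31, 32],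
   ![14, 38, 1, 39, 40, 33, 7, 23, 26, 8, 42, 31, 24, 10, 19, 5, 27, 16, 41, 0, 21, 22, 20, 6, 25, 12, 9, 17, 18, 32, 4, 43, 44, 15, 37, 34, 3, 35, 2, 36, 30, 28, 13, 11, 29],
   by decide +kernel, by decide +kernel⟩

/-- Coset table column. -/
def tS3 : Equiv.Perm (Fin 45) :=
  ⟨![29, 0, 15, 9, 16, 4, 3, 39, 7, 6, 2, 33, 30, 21, 13, 10, 5, 19, 17, 18, 35, 14, 12, 36, 42, 32, 23, 25, 11, 1, 22, 37, 27, 28, 40, 41, 26, 44, 34, 8, 38, 20, 43, 24, 31],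
   ![1, 29, 10, 6, 5, 16, 9, 8, 39, 3, 15, 28, 22, 14, 21, 2, 4, 18, 19, 17, 41, 13, 30, 26, 43, 27, 36, 32, 33, 0, 12, 44, 25, 11, 38, 20, 23, 31, 40, 7, 34, 35, 24, 42, 37],
   by decide +kernel, by decide +kernel⟩

/-- Coset table column. -/
def tS4 : Equiv.Perm (Fin 45) :=
  ⟨![27, 18, 28, 42, 5, 16, 15, 34, 20, 11, 9, 10, 38, 14, 21, 43, 4, 29, 25, 36, 40, 13, 7, 0, 2, 1, 17, 23, 24, 26, 35, 44, 19, 3, 22, 39, 32, 31, 41, 30, 8, 12, 33, 6, 37],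
   ![23, 25, 24, 33, 16, 4, 43, 22, 40, 10, 11, 9, 41, 21, 13, 6, 5, 26, 1, 32, 8, 14, 34, 27, 28, 18, 29, 0, 2, 17, 39, 37, 36, 42, 7, 30, 19, 44, 12, 35, 20, 38, 3, 15, 31],
   by decide +kernel, by decide +kernel⟩

/-- Coset table column. -/
def tZ : Equiv.Perm (Fin 45) :=
  ⟨![30, 12, 25, 26, 31, 44, 36, 3, 6, 23, 27, 0, 28, 16, 4, 32, 37, 34, 38, 40, 15, 5, 33, 39, 18, 41, 7, 35, 1, 22, 11, 14, 20, 29, 42, 10, 8, 13, 24, 9, 43, 2, 17, 19, 21],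
   ![11, 28, 41, 7, 14, 21, 8, 26, 36, 39, 35, 30, 1, 37, 31, 20, 13, 42, 24, 43, 32, 44, 29, 9, 38, 2, 3, 10, 12, 33, 0, 4, 15, 22, 17, 27, 6, 16, 18, 23, 19, 25, 34, 40, 5],
   by decide +kernel, by decide +kernel⟩

end CfsgLib.SchurSmall18
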