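/-
The Schur multiplier of the alternating groups of degrees six and seven.
-/
import Cfsg.Agent.Lib.SchurSmall18.StemTools
import Cfsg.Agent.Lib.SchurSmall18.TripleData
import Cfsg.Agent.Lib.Schur.PcAssemble
import Cfsg.Agent.Lib.Schur.SLTwo
import Cfsg.Agent.Lib.Schur.CriteriaElements
import Cfsg.Agent.Lib.SymPresent.Carmichael
import Cfsg.Agent.Lib.Spin.Basic
import Mathlib.GroupTheory.SpecificGroups.Alternating

set_option autoImplicit false

namespace CfsgLib.SchurSmall18

open Subgroup Cfsg CfsgLib.Schur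
open scoped commutatorElement

/-- Lifts satisfying Carmichael's relations up to a central element give a stem extension. -/
theorem exists_stem_of_lifts {H : Type} [Group H] [Finite H] {n : ℕ}
    [Nontrivial (Fin n)] {z : H} (hz : z ∈ center H) {ι : Type} [Fintype ι]
    (hι : Fintype.card ι + 2 = n) (X : ι → H) (t : ι → alternatingGroup (Fin n))
    (hgen : closure (Set.range t) = ⊤) (hX3 : ∀ i, X i ^ 3 ∈ zpowers z) (ht3 : ∀ i, t i ^ 3 = 1)
    (hX2 : ∀ i j, i ≠ j → (X i * X j) ^ 2 ∈ zpowers z)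
    (ht2 : ∀ i j, i ≠ j → (t i * t j) ^ 2 = 1) {u v : H × alternatingGroup (Fin n)}
    (hu : u ∈ closure (Set.range fun i => (X i, t i)))
    (hv : v ∈ closure (Set.range fun i => (X i, t i)))
    (huv1 : ⁅u.1, v.1⁆ = z) (huv2 : ⁅u.2, v.2⁆ = 1) :
    ∃ (Γ : Type) (_ : Group Γ) (_ : Finite Γ) (σ : Γ →* alternatingGroup (Fin n)),
      IsStemExtension σ ∧ Nonempty (σ.ker ≃* zpowers z) := by
  have hN : (zpowers z).Normal := ⟨fun x hx g => by
    obtain ⟨k, rfl⟩ := mem_zpowers_iff.mp hx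
    rw [(mem_center_iff.mp (zpow_mem hz k) g), mul_inv_cancel_right]
    exact zpow_mem (mem_zpowers z) k⟩
  set K := closure (Set.range fun i => (X i, t i)) with hK
  let π : H × alternatingGroup (Fin n) →* (H ⧸ zpowers z) × alternatingGroup (Fin n) :=
    (QuotientGroup.mk' (zpowers z)).prodMap (MonoidHom.id _)
  have hcarm : SymPresent.Carm fun i => π (X i, t i) := by
    refine ⟨fun i => ?_, fun i j hij => ?_⟩
    · rw [← map_pow]
      exact Prod.ext ((QuotientGroup.eq_one_iff _).mpr (hX3 i)) (ht3 i)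
    · rw [← map_mul, ← map_pow]
      exact Prod.ext ((QuotientGroup.eq_one_iff _).mpr (hX2 i j hij)) (ht2 i j hij)
  obtain ⟨hfin, hcard⟩ := hcarm.bound_univ
  have himg : closure (Set.range fun i => π (X i, t i)) = K.map π := by
    rw [hK, MonoidHom.map_closure, ← Set.range_comp]; rfl
  rw [himg] at hfin hcard
  let snd' : K.map π →* alternatingGroup (Fin n) :=
    (MonoidHom.snd _ _).comp (K.map π).subtype
  let σ : K →* alternatingGroup (Fin n) := (MonoidHom.snd _ _).comp K.subtype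
  have hsurj : Function.Surjective σ := by
    intro g
    have : g ∈ K.map (MonoidHom.snd H (alternatingGroup (Fin n))) := by
      rw [hK, MonoidHom.map_closure, ← Set.range_comp]
      show g ∈ closure (Set.range t)
      rw [hgen]; exact mem_top g
    obtain ⟨q, hq, rfl⟩ := this
    exact ⟨⟨q, hq⟩, rfl⟩
  have hsurj' : Function.Surjective snd' := fun g => by
    obtain ⟨q, rfl⟩ := hsurj g
    exact ⟨⟨π q, mem_map_of_mem π q.2⟩, rfl⟩
  have hinj : Function.Injective snd' := by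
    rw [Fintype.card_congr (Equiv.refl ι)] at hcard
    have h2 : 2 * Nat.card (alternatingGroup (Fin n)) = n.factorial := by
      rw [two_mul_nat_card_alternatingGroup, Nat.card_perm, Nat.card_eq_fintype_card,
        Fintype.card_fin]
    rw [hι, ← h2] at hcard
    refine ((Nat.bijective_iff_surjective_and_card snd').2 ⟨hsurj', le_antisymm ?_ ?_⟩).1
    · omega
    · exact Nat.card_le_card_of_surjective snd' hsurj'
  have hker : ∀ q : K, q ∈ σ.ker → (q : H × alternatingGroup (Fin n)).1 ∈ zpowers z := by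
    intro q hq
    have h1 : (⟨π q, mem_map_of_mem π q.2⟩ : K.map π) = 1 :=
      (injective_iff_map_eq_one snd').mp hinj _ hq
    have h2 : π q = 1 := congrArg Subtype.val h1
    exact (QuotientGroup.eq_one_iff _).mp (congrArg Prod.fst h2)
  let zK : K := ⁅(⟨u, hu⟩ : K), ⟨v, hv⟩⁆
  have hz1 : (zK : H × alternatingGroup (Fin n)).1 = z := huv1
  have hz2 : (zK : H × alternatingGroup (Fin n)).2 = 1 := huv2
  have hzk : zK ∈ σ.ker := hz2
  refine ⟨K, inferInstance, inferInstance, σ, ⟨hsurj, ?_, ?_⟩, ⟨?_⟩⟩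
  · intro q hq
    rw [mem_center_iff]
    intro g
    obtain ⟨k, hk⟩ := mem_zpowers_iff.mp (hker q hq)
    refine Subtype.ext (Prod.ext ?_ ?_)
    · show (g : H × alternatingGroup (Fin n)).1 * (q : H × alternatingGroup (Fin n)).1 = _
      rw [← hk]
      show _ = (q : H × alternatingGroup (Fin n)).1 * _
      rw [← hk]
      exact mem_center_iff.mp (zpow_mem hz k) _
    · show (g : H × alternatingGroup (Fin n)).2 * σ q = σ q * (g : H × alternatingGroup (Fin n)).2
      rw [MonoidHom.mem_ker.mp hq, mul_one, one_mul]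
  · intro q hq
    obtain ⟨k, hk⟩ := mem_zpowers_iff.mp (hker q hq)
    have : q = zK ^ k := by
      refine Subtype.ext (Prod.ext ?_ ?_)
      · rw [coe_zpow, Prod.pow_fst, hz1, hk]
      · rw [coe_zpow, Prod.pow_snd, hz2, one_zpow]; exact hq
    rw [this]
    exact zpow_mem (commutator_mem_commutator (mem_top _) (mem_top _)) k
  · let f : σ.ker →* zpowers z :=
      ((MonoidHom.fst H (alternatingGroup (Fin n))).comp (K.subtype.comp σ.ker.subtype)).codRestrict
        (zpowers z) fun q => hker q q.2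
    refine MulEquiv.ofBijective f ⟨(injective_iff_map_eq_one f).2 fun q hq => ?_, fun w => ?_⟩
    · exact Subtype.ext (Subtype.ext (Prod.ext (congrArg Subtype.val hq) q.2))
    · obtain ⟨k, hk⟩ := mem_zpowers_iff.mp w.2
      refine ⟨⟨zK ^ k, zpow_mem hzk k⟩, Subtype.ext ?_⟩
      show ((zK ^ k : K) : H × alternatingGroup (Fin n)).1 = _
      rw [coe_zpow, Prod.pow_fst, hz1, hk]

/-- The generators of the triple covers on forty-five points. -/
def liftTriple (i : Fin 5) : Equiv.Perm (Fin 45) := ![tS0, tS1, tS2, tS3, tS4] i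

/-- The three-cycle of an index and the last two points. -/
def tripleCycle (n : ℕ) (i a b : Fin n) : Equiv.Perm (Fin n) :=
  Equiv.swap i a * Equiv.swap i b

theorem tZ_central_lifts : ∀ i, tZ * liftTriple i = liftTriple i * tZ := by decide +kernel

theorem tZ_order : tZ ^ 3 = 1 ∧ tZ ≠ 1 := by decide +kernel

theorem lift_cube : ∀ i, liftTriple i ^ 3 = 1 := by decide +kernel

theorem lift_pair : ∀ i j, i ≠ j →
    (liftTriple i * liftTriple j) ^ 2 = 1 ∨ (liftTriple i * liftTriple j) ^ 2 = tZ ∨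
      (liftTriple i * liftTriple j) ^ 2 = tZ ^ 2 := by decide +kernel

theorem lift_commutator : ⁅tS1, tS0 * tS2⁻¹ * tS3 * tS0⁻¹⁆ = tZ := by decide +kernel

/-- The centraliser of the central element, where the covers live. -/
abbrev tripleAmbient : Subgroup (Equiv.Perm (Fin 45)) := centralizer {tZ}

/-- The generators in the centraliser. -/
def liftAmbient (i : Fin 5) : tripleAmbient :=
  ⟨liftTriple i, mem_centralizer_singleton_iff.mpr (tZ_central_lifts i).symm⟩

/-- The central element in the centraliser. -/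
def zAmbient : tripleAmbient := ⟨tZ, mem_centralizer_singleton_iff.mpr rfl⟩

theorem zAmbient_mem_center : zAmbient ∈ center tripleAmbient := by
  rw [mem_center_iff]
  exact fun g => Subtype.ext (mem_centralizer_singleton_iff.mp g.2)

theorem pair_mem_zpowers (i j : Fin 5) (hij : i ≠ j) :
    (liftAmbient i * liftAmbient j) ^ 2 ∈ zpowers zAmbient := by
  rcases lift_pair i j hij with h | h | h
  · exact ⟨0, Subtype.ext h.symm⟩
  · exact ⟨1, Subtype.ext (by simp only [zpow_one]; exact h.symm)⟩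
  · exact ⟨2, Subtype.ext (by simp only [zpow_ofNat]; exact h.symm)⟩

theorem zpowers_equiv : Nonempty (zpowers zAmbient ≃* Multiplicative (ZMod 3)) := by
  have : Fact (Nat.Prime 3) := ⟨Nat.prime_three⟩
  refine ⟨mulEquivOfPrimeCardEq (p := 3) ?_ (by simp [Nat.card_eq_fintype_card])⟩
  rw [Nat.card_zpowers]
  exact orderOf_eq_prime (Subtype.ext tZ_order.1) fun h => tZ_order.2 (congrArg Subtype.val h)

theorem two_swaps_even {n : ℕ} {a b c d : Fin n} (h1 : a ≠ b) (h2 : c ≠ d) :
    Equiv.swap a b * Equiv.swap c d ∈ alternatingGroup (Fin n) :=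
  Equiv.Perm.mul_mem_alternatingGroup_of_isSwap ⟨a, b, h1, rfl⟩ ⟨c, d, h2, rfl⟩

theorem four_swaps_even {n : ℕ} {a b c d e f g h : Fin n} (h1 : a ≠ b) (h2 : c ≠ d) (h3 : e ≠ f)
    (h4 : g ≠ h) :
    Equiv.swap a b * Equiv.swap c d * Equiv.swap e f * Equiv.swap g h ∈
      alternatingGroup (Fin n) := by
  rw [mul_assoc (Equiv.swap a b * Equiv.swap c d)]
  exact mul_mem (two_swaps_even h1 h2) (two_swaps_even h3 h4)

/-- Generators of `A_n` for the degree six. -/
def altSix (i : Fin 4) : alternatingGroup (Fin 6) :=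
  ⟨tripleCycle 6 (Fin.castLE (by decide) i) 5 4,
    two_swaps_even (by revert i; decide) (by revert i; decide)⟩

/-- Generators of `A_n` for the degree seven. -/
def altSeven (i : Fin 5) : alternatingGroup (Fin 7) :=
  ⟨tripleCycle 7 (Fin.castLE (by decide) i) 6 5,
    two_swaps_even (by revert i; decide) (by revert i; decide)⟩

theorem altSix_rels : (∀ i, altSix i ^ 3 = 1) ∧
    (∀ i j, i ≠ j → (altSix i * altSix j) ^ 2 = 1) ∧
      ⁅altSix 1, altSix 0 * (altSix 2)⁻¹ * altSix 3 * (altSix 0)⁻¹⁆ = 1 := by decide +kernel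

theorem altSeven_rels : (∀ i, altSeven i ^ 3 = 1) ∧
    (∀ i j, i ≠ j → (altSeven i * altSeven j) ^ 2 = 1) ∧
      ⁅altSeven 1, altSeven 0 * (altSeven 2)⁻¹ * altSeven 3 * (altSeven 0)⁻¹⁆ = 1 := by
  decide +kernel

/-- Words for the three-cycles of degree 6. -/
def wordsSix : List (List (Fin 4)) :=
  [
  [0], [1], [2], [3], [0, 0], [1, 1], [2, 2], [3, 3], [0, 0, 1], [0, 0, 2], [0, 0, 3], [0,
   1, 1], [0, 2, 2], [0, 3, 3], [1, 0, 0], [1, 1, 0], [1, 1, 2], [1, 1, 3], [1, 2, 2], [1,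
   3, 3], [2, 0, 0], [2, 1, 1], [2, 2, 0], [2, 2, 1], [2, 2, 3], [2, 3, 3], [3, 0, 0], [3,
   1, 1], [3, 2, 2], [3, 3, 0], [3, 3, 1], [3, 3, 2], [0, 1, 2, 0, 1], [0, 1, 3, 0, 1], [0,
   2, 1, 0, 2], [0, 2, 3, 0, 2], [0, 3, 1, 0, 3], [0, 3, 2, 0, 3], [1, 2, 3, 1, 2], [1, 3,
   2, 1, 3]]

/-- Words for the three-cycles of degree 7. -/
def wordsSeven : List (List (Fin 5)) :=
  [
  [0], [1], [2], [3], [4], [0, 0], [1, 1], [2, 2], [3, 3], [4, 4], [0, 0, 1], [0, 0, 2], [0,
   0, 3], [0, 0, 4], [0, 1, 1], [0, 2, 2], [0, 3, 3], [0, 4, 4], [1, 0, 0], [1, 1, 0], [1,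
   1, 2], [1, 1, 3], [1, 1, 4], [1, 2, 2], [1, 3, 3], [1, 4, 4], [2, 0, 0], [2, 1, 1], [2,
   2, 0], [2, 2, 1], [2, 2, 3], [2, 2, 4], [2, 3, 3], [2, 4, 4], [3, 0, 0], [3, 1, 1], [3,
   2, 2], [3, 3, 0], [3, 3, 1], [3, 3, 2], [3, 3, 4], [3, 4, 4], [4, 0, 0], [4, 1, 1], [4,
   2, 2], [4, 3, 3], [4, 4, 0], [4, 4, 1], [4, 4, 2], [4, 4, 3], [0, 1, 2, 0, 1], [0, 1, 3,
   0, 1], [0, 1, 4, 0, 1], [0, 2, 1, 0, 2], [0, 2, 3, 0, 2], [0, 2, 4, 0, 2], [0, 3, 1, 0,
   3], [0, 3, 2, 0, 3], [0, 3, 4, 0, 3], [0, 4, 1, 0, 4], [0, 4, 2, 0, 4], [0, 4, 3, 0, 4],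
   [1, 2, 3, 1, 2], [1, 2, 4, 1, 2], [1, 3, 2, 1, 3], [1, 3, 4, 1, 3], [1, 4, 2, 1, 4], [1,
   4, 3, 1, 4], [2, 3, 4, 2, 3], [2, 4, 3, 2, 4]]

theorem closure_eq_top_of_words {n : ℕ} {ι : Type*} (t : ι → alternatingGroup (Fin n))
    (W : List (List ι))
    (h : ∀ a b c : Fin n, a ≠ b → a ≠ c → b ≠ c →
      Equiv.swap a b * Equiv.swap b c ∈
        W.map fun w => (w.map fun i => (t i : Equiv.Perm (Fin n))).prod) :
    closure (Set.range t) = ⊤ := by
  refine map_injective (alternatingGroup (Fin n)).subtype_injective ?_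
  rw [← MonoidHom.range_eq_map, range_subtype, MonoidHom.map_closure]
  refine le_antisymm ((closure_le _).2 ?_) ?_
  · rintro _ ⟨_, ⟨i, rfl⟩, rfl⟩; exact (t i).2
  · conv_lhs => rw [← Equiv.Perm.closure_three_cycles_eq_alternating]
    rw [closure_le]
    intro σ hσ
    obtain ⟨a, ha⟩ := Finset.card_pos.mp (show 0 < σ.support.card by rw [hσ.card_support]; norm_num)
    have hnd := hσ.nodup_iff_mem_support.mpr ha
    simp only [List.nodup_cons, List.mem_cons, List.not_mem_nil, or_false, not_or] at hnd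
    rw [SetLike.mem_coe, hσ.eq_swap_mul_swap_iff_mem_support.mpr ha]
    obtain ⟨w, -, hw⟩ := List.mem_map.mp (h a (σ a) (σ (σ a)) hnd.1.1 hnd.1.2 hnd.2.1)
    rw [← hw]
    refine Subgroup.list_prod_mem _ fun x hx => ?_
    obtain ⟨i, -, rfl⟩ := List.mem_map.mp hx
    exact subset_closure ⟨t i, ⟨i, rfl⟩, rfl⟩

theorem altSix_gen : closure (Set.range altSix) = ⊤ :=
  closure_eq_top_of_words altSix wordsSix (by decide +kernel)

theorem altSeven_gen : closure (Set.range altSeven) = ⊤ :=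
  closure_eq_top_of_words altSeven wordsSeven (by decide +kernel)

theorem exists_triple_six : ∃ (Γ : Type) (_ : Group Γ) (_ : Finite Γ)
    (σ : Γ →* alternatingGroup (Fin 6)),
      IsStemExtension σ ∧ Nonempty (σ.ker ≃* Multiplicative (ZMod 3)) := by
  let e : Fin 4 → Fin 5 := Fin.castLE (by decide)
  have hm : ∀ i, (liftAmbient (e i), altSix i) ∈
      closure (Set.range fun i => (liftAmbient (e i), altSix i)) := fun i =>
    subset_closure ⟨i, rfl⟩
  obtain ⟨Γ, i1, i2, σ, hσ, ⟨f⟩⟩ := exists_stem_of_lifts zAmbient_mem_center (ι := Fin 4)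
    (n := 6) rfl (fun i => liftAmbient (e i)) altSix altSix_gen
    (fun i => ⟨0, Subtype.ext (lift_cube (e i)).symm⟩) altSix_rels.1
    (fun i j hij => pair_mem_zpowers _ _ fun h => hij (Fin.castLE_injective _ h)) altSix_rels.2.1
    (hm 1) (mul_mem (mul_mem (mul_mem (hm 0) (inv_mem (hm 2))) (hm 3)) (inv_mem (hm 0)))
    (Subtype.ext lift_commutator) altSix_rels.2.2
  exact ⟨Γ, i1, i2, σ, hσ, ⟨f.trans zpowers_equiv.some⟩⟩

theorem exists_triple_seven : ∃ (Γ : Type) (_ : Group Γ) (_ : Finite Γ)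
    (σ : Γ →* alternatingGroup (Fin 7)),
      IsStemExtension σ ∧ Nonempty (σ.ker ≃* Multiplicative (ZMod 3)) := by
  have hm : ∀ i, (liftAmbient i, altSeven i) ∈
      closure (Set.range fun i => (liftAmbient i, altSeven i)) := fun i =>
    subset_closure ⟨i, rfl⟩
  obtain ⟨Γ, i1, i2, σ, hσ, ⟨f⟩⟩ := exists_stem_of_lifts zAmbient_mem_center (ι := Fin 5)
    (n := 7) rfl liftAmbient altSeven altSeven_gen
    (fun i => ⟨0, Subtype.ext (lift_cube i).symm⟩) altSeven_rels.1
    pair_mem_zpowers altSeven_rels.2.1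
    (hm 1) (mul_mem (mul_mem (mul_mem (hm 0) (inv_mem (hm 2))) (hm 3)) (inv_mem (hm 0)))
    (Subtype.ext lift_commutator) altSeven_rels.2.2
  exact ⟨Γ, i1, i2, σ, hσ, ⟨f.trans zpowers_equiv.some⟩⟩

/-- A finite set of elements closed under products is a subgroup of that order. -/
theorem exists_sylow_of_table {G : Type*} [Group G] [Finite G] [DecidableEq G] {p v d : ℕ}
    [Fact p.Prime] (l : List G) (h1 : (1 : G) ∈ l) (hmul : ∀ a ∈ l, ∀ b ∈ l, a * b ∈ l)
    (hnd : l.Nodup) (hlen : l.length = p ^ v) (hd : ¬ p ∣ d) (hG : Nat.card G = p ^ v * d) :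
    ∃ S : Sylow p G, ∀ g, g ∈ (S : Subgroup G) ↔ g ∈ l := by
  let M : Submonoid G :=
    { carrier := {g | g ∈ l}, one_mem' := h1, mul_mem' := fun {a b} ha hb => hmul a ha b hb }
  let T : Subgroup G :=
    { M with
      inv_mem' := fun {g} hg => by
        obtain ⟨n, hn⟩ := (IsOfFinOrder.mem_powers_iff_mem_zpowers
          (isOfFinOrder_of_finite g)).mpr (inv_mem (mem_zpowers g))
        show g⁻¹ ∈ M
        rw [← hn]; exact pow_mem hg n }
  have hcard : Nat.card T = p ^ (Nat.card G).factorization p := by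
    rw [card_sylow_of_split hd hG, ← hlen, ← List.toFinset_card_of_nodup hnd,
      ← Nat.card_eq_finsetCard]
    exact Nat.card_congr (Equiv.subtypeEquivRight fun g => List.mem_toFinset.symm)
  exact ⟨Sylow.ofCard T hcard, fun g => Iff.rfl⟩

/-- The products `a ^ i * b ^ j`. -/
def pairTable {G : Type*} [Monoid G] (a b : G) (m k : ℕ) : List G :=
  (List.range m).flatMap fun i => (List.range k).map fun j => a ^ i * b ^ j

theorem pairTable_mem {G : Type*} [Group G] {a b : G} {m k : ℕ} :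
    ∀ g ∈ pairTable a b m k, g ∈ closure ({a, b} : Set G) := by
  intro g hg
  simp only [pairTable, List.mem_flatMap, List.mem_map] at hg
  obtain ⟨i, -, j, -, rfl⟩ := hg
  exact mul_mem (pow_mem (subset_closure (by simp)) i) (pow_mem (subset_closure (by simp)) j)

theorem spanAt_two_of_table {G : Type} [Group G] [Finite G] [DecidableEq G] (a b : G) {d : ℕ}
    (h : a ^ 4 = 1 ∧ a ^ 2 ≠ 1 ∧ b * a * b⁻¹ = a⁻¹ ∧ (1 : G) ∈ pairTable a b 4 2 ∧
      (pairTable a b 4 2).Nodup ∧
      ((pairTable a b 4 2).all fun x => (pairTable a b 4 2).all fun y =>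
        (pairTable a b 4 2).elem (x * y)) = true)
    (hd : ¬ 2 ∣ d) (hG : Nat.card G = 2 ^ 3 * d) : Pc.SpanAt 2 G [2] := by
  obtain ⟨S, hS⟩ := exists_sylow_of_table (p := 2) (v := 3) _ h.2.2.2.1
    (fun x hx y hy => List.elem_iff.mp (List.all_eq_true.mp (List.all_eq_true.mp h.2.2.2.2.2 x hx) y hy))
    h.2.2.2.2.1
    (by simp [pairTable, List.length_flatMap]) hd hG
  exact spanAt_two_of_dihedral S (fun g hg => pairTable_mem g ((hS g).mp hg)) h.1 h.2.1 h.2.2.1

theorem spanAt_three_of_table {G : Type} [Group G] [Finite G] [DecidableEq G] (a b : G) {d : ℕ}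
    (h : a ^ 3 = 1 ∧ a * b = b * a ∧ (1 : G) ∈ pairTable a b 3 3 ∧
      (pairTable a b 3 3).Nodup ∧
      ((pairTable a b 3 3).all fun x => (pairTable a b 3 3).all fun y =>
        (pairTable a b 3 3).elem (x * y)) = true)
    (hd : ¬ 3 ∣ d) (hG : Nat.card G = 3 ^ 2 * d) : Pc.SpanAt 3 G [3] := by
  obtain ⟨S, hS⟩ := exists_sylow_of_table (p := 3) (v := 2) _ h.2.2.1
    (fun x hx y hy => List.elem_iff.mp (List.all_eq_true.mp (List.all_eq_true.mp h.2.2.2.2 x hx) y hy))
    h.2.2.2.1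
    (by simp [pairTable, List.length_flatMap]) hd hG
  exact spanAt_of_commuting_pair S (fun g hg => pairTable_mem g ((hS g).mp hg)) h.2.1 h.1

/-- A four-cycle times a disjoint transposition. -/
def fourSix : alternatingGroup (Fin 6) :=
  ⟨Equiv.swap 0 1 * Equiv.swap 1 2 * Equiv.swap 2 3 * Equiv.swap 4 5,
    four_swaps_even (by decide) (by decide) (by decide) (by decide)⟩

/-- An involution inverting it. -/
def flipSix : alternatingGroup (Fin 6) :=
  ⟨Equiv.swap 0 2 * Equiv.swap 4 5, two_swaps_even (by decide) (by decide)⟩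

/-- A five-cycle. -/
def fiveSix : alternatingGroup (Fin 6) :=
  ⟨Equiv.swap 0 1 * Equiv.swap 1 2 * Equiv.swap 2 3 * Equiv.swap 3 4,
    four_swaps_even (by decide) (by decide) (by decide) (by decide)⟩

/-- A four-cycle times a disjoint transposition. -/
def fourSeven : alternatingGroup (Fin 7) :=
  ⟨Equiv.swap 0 1 * Equiv.swap 1 2 * Equiv.swap 2 3 * Equiv.swap 4 5,
    four_swaps_even (by decide) (by decide) (by decide) (by decide)⟩

/-- An involution inverting it. -/
def flipSeven : alternatingGroup (Fin 7) :=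
  ⟨Equiv.swap 0 2 * Equiv.swap 4 5, two_swaps_even (by decide) (by decide)⟩

/-- A five-cycle. -/
def fiveSeven : alternatingGroup (Fin 7) :=
  ⟨Equiv.swap 0 1 * Equiv.swap 1 2 * Equiv.swap 2 3 * Equiv.swap 3 4,
    four_swaps_even (by decide) (by decide) (by decide) (by decide)⟩

/-- A seven-cycle. -/
def sevenSeven : alternatingGroup (Fin 7) :=
  ⟨Equiv.swap 0 1 * Equiv.swap 1 2 * (Equiv.swap 2 3 * Equiv.swap 3 4) * (Equiv.swap 4 5 *
    Equiv.swap 5 6), mul_mem (mul_mem (two_swaps_even (a := 0) (b := 1) (c := 1) (d := 2)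
      (by decide) (by decide)) (two_swaps_even (a := 2) (b := 3) (c := 3) (d := 4) (by decide)
      (by decide))) (two_swaps_even (a := 4) (b := 5) (c := 5) (d := 6) (by decide) (by decide))⟩

theorem natCard_alt {n : ℕ} [Nontrivial (Fin n)] :
    2 * Nat.card (alternatingGroup (Fin n)) = n.factorial := by
  rw [two_mul_nat_card_alternatingGroup, Nat.card_perm, Nat.card_eq_fintype_card, Fintype.card_fin]

theorem card_six : Nat.card (alternatingGroup (Fin 6)) = 360 := by
  have := natCard_alt (n := 6)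
  rw [show Nat.factorial 6 = 720 from rfl] at this
  omega

theorem card_seven : Nat.card (alternatingGroup (Fin 7)) = 2520 := by
  have := natCard_alt (n := 7)
  rw [show Nat.factorial 7 = 5040 from rfl] at this
  omega

theorem spanAt_six (p : ℕ) (hp : p.Prime) :
    Pc.SpanAt p (alternatingGroup (Fin 6)) (if p = 2 then [2] else if p = 3 then [3] else []) := by
  have : Fact p.Prime := ⟨hp⟩
  by_cases h2 : p = 2
  · subst h2
    rw [if_pos rfl]
    exact spanAt_two_of_table fourSix flipSix (d := 45) (by decide +kernel) (by norm_num) card_six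
  by_cases h3 : p = 3
  · subst h3
    rw [if_neg h2, if_pos rfl]
    exact spanAt_three_of_table (⟨Equiv.swap 0 1 * Equiv.swap 1 2,
      two_swaps_even (by decide) (by decide)⟩ : alternatingGroup (Fin 6))
      ⟨Equiv.swap 3 4 * Equiv.swap 4 5, two_swaps_even (by decide) (by decide)⟩
      (d := 40) (by decide +kernel) (by norm_num) card_six
  rw [if_neg h2, if_neg h3]
  refine Pc.spanAt_of_noMultiplierAt hp ?_
  by_cases h5 : p = 5
  · subst h5
    exact noMultiplierAt_of_sylow_element fiveSix 1 72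
      (by rw [pow_one]; exact orderOf_eq_prime (by decide +kernel) (by decide +kernel))
      (by norm_num) (by rw [card_six]; norm_num)
  refine noMultiplierAt_of_not_dvd fun hd => ?_
  rw [card_six, show (360 : ℕ) = 2 ^ 3 * 3 ^ 2 * 5 by norm_num] at hd
  rcases hp.dvd_mul.mp hd with hd | hd
  rcases hp.dvd_mul.mp hd with hd | hd
  · exact h2 ((Nat.prime_dvd_prime_iff_eq hp Nat.prime_two).mp (hp.dvd_of_dvd_pow hd))
  · exact h3 ((Nat.prime_dvd_prime_iff_eq hp Nat.prime_three).mp (hp.dvd_of_dvd_pow hd))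
  · exact h5 ((Nat.prime_dvd_prime_iff_eq hp (by norm_num)).mp hd)

theorem spanAt_seven (p : ℕ) (hp : p.Prime) :
    Pc.SpanAt p (alternatingGroup (Fin 7)) (if p = 2 then [2] else if p = 3 then [3] else []) := by
  have : Fact p.Prime := ⟨hp⟩
  by_cases h2 : p = 2
  · subst h2
    rw [if_pos rfl]
    exact spanAt_two_of_table fourSeven flipSeven (d := 315) (by decide +kernel) (by norm_num)
      card_seven
  by_cases h3 : p = 3
  · subst h3
    rw [if_neg h2, if_pos rfl]
    exact spanAt_three_of_table (⟨Equiv.swap 0 1 * Equiv.swap 1 2,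
      two_swaps_even (by decide) (by decide)⟩ : alternatingGroup (Fin 7))
      ⟨Equiv.swap 3 4 * Equiv.swap 4 5, two_swaps_even (by decide) (by decide)⟩
      (d := 280) (by decide +kernel) (by norm_num) card_seven
  rw [if_neg h2, if_neg h3]
  refine Pc.spanAt_of_noMultiplierAt hp ?_
  by_cases h5 : p = 5
  · subst h5
    exact noMultiplierAt_of_sylow_element fiveSeven 1 504
      (by rw [pow_one]; exact orderOf_eq_prime (by decide +kernel) (by decide +kernel))
      (by norm_num) (by rw [card_seven]; norm_num)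
  by_cases h7 : p = 7
  · subst h7
    exact noMultiplierAt_of_sylow_element sevenSeven 1 360
      (by rw [pow_one]; exact orderOf_eq_prime (by decide +kernel) (by decide +kernel))
      (by norm_num) (by rw [card_seven]; norm_num)
  refine noMultiplierAt_of_not_dvd fun hd => ?_
  rw [card_seven, show (2520 : ℕ) = 2 ^ 3 * 3 ^ 2 * 5 * 7 by norm_num] at hd
  rcases hp.dvd_mul.mp hd with hd | hd
  rcases hp.dvd_mul.mp hd with hd | hd
  rcases hp.dvd_mul.mp hd with hd | hd
  · exact h2 ((Nat.prime_dvd_prime_iff_eq hp Nat.prime_two).mp (hp.dvd_of_dvd_pow hd))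
  · exact h3 ((Nat.prime_dvd_prime_iff_eq hp Nat.prime_three).mp (hp.dvd_of_dvd_pow hd))
  · exact h5 ((Nat.prime_dvd_prime_iff_eq hp (by norm_num)).mp hd)
  · exact h7 ((Nat.prime_dvd_prime_iff_eq hp (by norm_num)).mp hd)

theorem hasCyclicSchurMultiplier_six_of {G : Type} [Group G] [Finite G]
    (h : ∀ p : ℕ, p.Prime → Pc.SpanAt p G (if p = 2 then [2] else if p = 3 then [3] else []))
    {Δ : Type} [Group Δ] [Finite Δ] {τ : Δ →* G} (hτ : IsStemExtension τ)
    (f : τ.ker ≃* Multiplicative (ZMod 2))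
    (h3 : ∃ (Γ : Type) (_ : Group Γ) (_ : Finite Γ) (σ : Γ →* G),
      IsStemExtension σ ∧ Nonempty (σ.ker ≃* Multiplicative (ZMod 3))) :
    HasCyclicSchurMultiplier G 6 := by
  obtain ⟨Γ, _, _, σ, hσ, ⟨e⟩⟩ := h3
  obtain ⟨ρ, hρ, ⟨g⟩⟩ := exists_join_zmod hτ hσ (by norm_num) f e
  refine Pc.hasCyclicSchurMultiplier_of_spans (a := 2) (b := 3) (pa := 2) (pb := 3) rfl
    (by norm_num) ?_ ?_ ?_ ⟨_, inferInstance, inferInstance, ρ, hρ, ⟨g⟩⟩
  · simpa using h 2 Nat.prime_two
  · simpa using h 3 Nat.prime_three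
  · intro p hp h2 h3'
    simpa [h2, h3'] using h p hp

theorem exists_double (n : ℕ) (hn : 4 ≤ n) : ∃ (Δ : Type) (_ : Group Δ) (_ : Finite Δ)
    (τ : Δ →* alternatingGroup (Fin n)),
      IsStemExtension τ ∧ Nonempty (τ.ker ≃* Multiplicative (ZMod 2)) := by
  obtain ⟨Δ, i1, i2, z, hzc, hzo, hzd, hN, ⟨e⟩⟩ := Spin.exists_double_cover n hn
  refine ⟨Δ, i1, i2, e.toMonoidHom.comp (QuotientGroup.mk' (zpowers z)), ?_, ?_⟩
  · refine isStemExtension_comp_equiv ⟨QuotientGroup.mk'_surjective _, ?_, ?_⟩ e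
    · rw [QuotientGroup.ker_mk', zpowers_le]; exact hzc
    · rw [QuotientGroup.ker_mk', zpowers_le]; exact hzd
  · have : Fact (Nat.Prime 2) := ⟨Nat.prime_two⟩
    refine ⟨mulEquivOfPrimeCardEq (p := 2) ?_ (by simp [Nat.card_eq_fintype_card])⟩
    rw [show (e.toMonoidHom.comp (QuotientGroup.mk' (zpowers z))).ker =
        (QuotientGroup.mk' (zpowers z)).ker from MonoidHom.ker_mulEquiv_comp _ e,
      QuotientGroup.ker_mk', Nat.card_zpowers, hzo]

theorem multiplier_six : HasCyclicSchurMultiplier (alternatingGroup (Fin 6)) 6 := by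
  obtain ⟨Δ, _, _, τ, hτ, ⟨f⟩⟩ := exists_double 6 (by norm_num)
  exact hasCyclicSchurMultiplier_six_of spanAt_six hτ f exists_triple_six

theorem multiplier_seven : HasCyclicSchurMultiplier (alternatingGroup (Fin 7)) 6 := by
  obtain ⟨Δ, _, _, τ, hτ, ⟨f⟩⟩ := exists_double 7 (by norm_num)
  exact hasCyclicSchurMultiplier_six_of spanAt_seven hτ f exists_triple_seven

end CfsgLib.SchurSmall18
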