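import Cfsg.Agent.Lib.SchurCover.Perfect
import Mathlib.GroupTheory.SpecificGroups.Cyclic

/-!
A perfect group with trivial multiplier is a Schur cover of each of its central quotients.
-/

set_option autoImplicit false

namespace CfsgLib.SchurSmall18

open Subgroup CfsgLib.SchurCover
open scoped commutatorElement

universe u

variable {S G : Type u} [Group S] [Group G]

/-- A perfect group with trivial multiplier maps onto every finite stem extension of a central quotient. -/
theorem exists_cover_hom [Finite S] (hperf : Group.IsPerfect S)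
    (hM : Cfsg.HasCyclicSchurMultiplier S 1) (π : S →* G) (hπ : Function.Surjective π)
    {Γ : Type u} [Group Γ] (σ : Γ →* G) (hσ : Cfsg.IsStemExtension σ) :
    ∃ η : S →* Γ, σ.comp η = π ∧ Function.Surjective η := by
  have hfs : Function.Surjective (fibreFst π σ) := fibreFst_surjective π hσ.1
  have hbot := ker_inf_commutator_eq_bot hM (fibreFst π σ) hfs (ker_fibreFst_le_center π hσ.2.1)
  obtain ⟨s, hs⟩ := exists_section_of_perfect hperf (fibreFst π σ) hfs hbot
  refine ⟨(fibreSnd π σ).comp s, MonoidHom.ext fun x => ?_, ?_⟩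
  · have h1 : fibreFst π σ (s x) = x := DFunLike.congr_fun hs x
    have h2 := fibre_rel π σ (s x)
    rw [h1] at h2
    exact h2.symm
  · set η := (fibreSnd π σ).comp s with hη
    have hcomp : ∀ x, σ (η x) = π x := fun x => by
      have h1 : fibreFst π σ (s x) = x := DFunLike.congr_fun hs x
      have h2 := fibre_rel π σ (s x)
      rw [h1] at h2
      exact h2.symm
    have hsplit : ∀ g : Γ, ∃ x : S, (η x)⁻¹ * g ∈ σ.ker := fun g => by
      obtain ⟨x, hx⟩ := hπ (σ g)
      exact ⟨x, by rw [MonoidHom.mem_ker, map_mul, map_inv, hcomp, hx, inv_mul_cancel]⟩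
    have hcomm : commutator Γ ≤ η.range := by
      rw [commutator_def, commutator_le]
      intro a _ b _
      obtain ⟨x, hx⟩ := hsplit a
      obtain ⟨y, hy⟩ := hsplit b
      refine ⟨⁅x, y⁆, ?_⟩
      rw [map_commutatorElement, commutator_congr_central (a := η x) (b := η y) (a' := a) (b' := b)
        (hσ.2.1 hx) (hσ.2.1 hy)]
    intro g
    obtain ⟨x, hx⟩ := hsplit g
    obtain ⟨z, hz⟩ := hcomm (hσ.2.2 hx)
    exact ⟨x * z, by rw [map_mul, hz, mul_inv_cancel_left]⟩

/-- The multiplier of a central quotient of a perfect group with trivial multiplier. -/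
theorem hasSchurMultiplier_of_cover [Finite S] (hperf : Group.IsPerfect S)
    (hM : Cfsg.HasCyclicSchurMultiplier S 1) (π : S →* G) (hπ : Function.Surjective π)
    (hc : π.ker ≤ center S) {A : Type*} [CommGroup A] (e : π.ker ≃* A) :
    Cfsg.HasSchurMultiplier G A := by
  have hstem : Cfsg.IsStemExtension π := ⟨hπ, hc, by
    rw [(Group.isPerfect_def).1 hperf]; exact le_top⟩
  refine ⟨⟨S, inferInstance, inferInstance, π, hstem, ⟨e⟩⟩, fun Γ _ _ σ hσ => ?_⟩
  obtain ⟨η, hη, hsurj⟩ := exists_cover_hom hperf hM π hπ σ hσ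
  have hcomp : ∀ x, σ (η x) = π x := fun x => DFunLike.congr_fun hη x
  let r : π.ker →* σ.ker :=
    (η.comp π.ker.subtype).codRestrict σ.ker fun x => by
      rw [MonoidHom.mem_ker, MonoidHom.comp_apply, hcomp]
      exact x.2
  refine ⟨r.comp e.symm.toMonoidHom, ?_⟩
  refine Function.Surjective.comp (f := e.symm.toMonoidHom) (g := r) ?_ e.symm.surjective
  rintro ⟨z, hz⟩
  obtain ⟨x, rfl⟩ := hsurj z
  refine ⟨⟨x, ?_⟩, rfl⟩
  rw [MonoidHom.mem_ker, ← hcomp]
  exact hz

end CfsgLib.SchurSmall18
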